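import Groth.Agent.MLMod.Basic
import Mathlib.LinearAlgebra.TensorProduct.Tower
import Mathlib.RingTheory.Flat.FaithfullyFlat.Algebra

set_option autoImplicit false
open TensorProduct

universe u

namespace Groth.Agent.MLDesc

open Groth.Agent.MLMod

variable (R : Type u) [CommRing R] (S : Type u) [CommRing S] [Algebra R S]
variable {M : Type u} [AddCommGroup M] [Module R M]
variable {ι : Type u} [Preorder ι] [DecidableEq ι] {G : ι → Type u} [∀ i, AddCommGroup (G i)]
  [∀ i, Module R (G i)] {f : ∀ i j, i ≤ j → G i →ₗ[R] G j}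

instance [DirectedSystem G fun i j h => f i j h] :
    DirectedSystem (fun i => S ⊗[R] G i) fun i j h => (f i j h).baseChange S where
  map_self i x := by
    induction x using TensorProduct.induction_on with
    | zero => simp
    | tmul s g => simp [DirectedSystem.map_self (f := fun i j h => f i j h)]
    | add x y hx hy => simp only [map_add, hx, hy]
  map_map k j i hij hjk x := by
    induction x using TensorProduct.induction_on with
    | zero => simp
    | tmul s g => simp [DirectedSystem.map_map (f := fun i j h => f i j h)]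
    | add x y hx hy => simp only [map_add, hx, hy]

theorem comm_lTensor {A B Q : Type u} [AddCommGroup A] [Module R A] [AddCommGroup B] [Module R B]
    [AddCommGroup Q] [Module R Q] (φ : A →ₗ[R] B) (x : Q ⊗[R] A) :
    TensorProduct.comm R Q B (φ.lTensor Q x) = φ.rTensor Q (TensorProduct.comm R Q A x) := by
  induction x using TensorProduct.induction_on with
  | zero => simp
  | tmul a q => simp
  | add x y hx hy => simp only [map_add, hx, hy]

/-- `S ⊗ colim G ≅ colim (S ⊗ G)` as `S`-modules. -/
noncomputable def colimBaseChange [Nonempty ι] [IsDirectedOrder ι]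
    [DirectedSystem G fun i j h => f i j h] :
    Module.DirectLimit (fun i => S ⊗[R] G i) (fun i j h => (f i j h).baseChange S) ≃ₗ[S]
      S ⊗[R] Module.DirectLimit G f :=
  LinearEquiv.ofBijective
    (Module.DirectLimit.lift S ι _ _ (fun i => (Module.DirectLimit.of R ι G f i).baseChange S)
      (fun i j h x => by
        induction x using TensorProduct.induction_on with
        | zero => simp
        | tmul s g => simp
        | add x y hx hy => simp only [map_add, hx, hy])) (by
    constructor
    · rw [injective_iff_map_eq_zero]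
      intro z hz
      obtain ⟨i, x, rfl⟩ := Module.DirectLimit.exists_of z
      rw [Module.DirectLimit.lift_of] at hz
      replace hz : (Module.DirectLimit.of R ι G f i).lTensor S x = 0 := by
        rw [← LinearMap.baseChange_eq_ltensor]; exact hz
      obtain ⟨j, hij, hj⟩ := Colim.rTensor_of_zero_exact
        (f := f) (TensorProduct.comm R S (G i) x) (by rw [← comm_lTensor, hz, map_zero])
      have : (f i j hij).baseChange S x = 0 := by
        rw [LinearMap.baseChange_eq_ltensor]
        apply (TensorProduct.comm R S (G j)).injective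
        rw [map_zero, comm_lTensor, hj]
      rw [← Module.DirectLimit.of_f (hij := hij), this, map_zero]
    · intro z
      obtain ⟨i, y, hy⟩ := Colim.exists_rTensor_of (TensorProduct.comm R S _ z)
      refine ⟨Module.DirectLimit.of S ι _ (fun i j h => (f i j h).baseChange S) i
        ((TensorProduct.comm R S (G i)).symm y), ?_⟩
      rw [Module.DirectLimit.lift_of, LinearMap.baseChange_eq_ltensor]
      apply (TensorProduct.comm R S _).injective
      rw [comm_lTensor, LinearEquiv.apply_symm_apply, hy])

theorem colimBaseChange_of [Nonempty ι] [IsDirectedOrder ι]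
    [DirectedSystem G fun i j h => f i j h] (i : ι) (x : S ⊗[R] G i) :
    colimBaseChange R S (f := f) (Module.DirectLimit.of S ι _ _ i x) =
      (Module.DirectLimit.of R ι G f i).baseChange S x := by
  simp [colimBaseChange]

theorem distrib_rTensor {A B Q : Type u} [AddCommGroup A] [Module R A] [AddCommGroup B] [Module R B]
    [AddCommGroup Q] [Module R Q] (φ : A →ₗ[R] B) (x : A ⊗[R] Q) :
    AlgebraTensorModule.distribBaseChange R S B Q (1 ⊗ₜ φ.rTensor Q x) =
      (φ.baseChange S).rTensor (S ⊗[R] Q)
        (AlgebraTensorModule.distribBaseChange R S A Q (1 ⊗ₜ x)) := by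
  induction x using TensorProduct.induction_on with
  | zero => simp
  | tmul a q => simp
  | add x y hx hy => simp only [map_add, TensorProduct.tmul_add, hx, hy]

theorem isMittagLeffler_of_baseChange [Module.FaithfullyFlat R S]
    (hSM : CAlg.IsMittagLeffler S (S ⊗[R] M)) : CAlg.IsMittagLeffler R M := by
  classical
  intro κ Q _ _
  rw [injective_iff_map_eq_zero]
  intro x hx
  obtain ⟨J, hJ, y, rfl⟩ := Submodule.exists_fg_le_eq_rTensor_subtype (R := R) x
  haveI : Module.Finite R J := Module.Finite.iff_fg.mpr hJ
  obtain ⟨n, π, hπ⟩ := Module.Finite.exists_fin' R J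
  obtain ⟨w, rfl⟩ := LinearMap.rTensor_surjective _ hπ y
  rw [← LinearMap.rTensor_comp_apply] at hx ⊢
  set φ : (Fin n → R) →ₗ[R] M := J.subtype ∘ₗ π with hφdef
  clear_value φ
  have hker : ∀ i, φ.rTensor (Q i) (piRightHom R R _ Q w i) = 0 := fun i => by
    rw [← piRightHom_rTensor, hx]; rfl
  obtain ⟨P', _, _, hP', g, h, hfg, hg⟩ := exists_fp_factor_family hSM (φ.baseChange S)
    (Q := fun i => S ⊗[R] Q i)
    (fun i => AlgebraTensorModule.distribBaseChange R S _ (Q i) (1 ⊗ₜ piRightHom R R _ Q w i))
    (fun i => by rw [← distrib_rTensor, hker, TensorProduct.tmul_zero, map_zero])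
  let e := Colim.colimitEquiv (R := R) (M := M)
  let E := (colimBaseChange R S (f := Colim.stageMap (R := R) (M := M))).trans (e.baseChange R S _ _)
  obtain ⟨i₁, hi, hhi⟩ := Colim.exists_lift_fp (E.symm.toLinearMap ∘ₗ h)
  obtain ⟨i₂, ψ, hψ⟩ := Colim.exists_lift_fp (e.symm.toLinearMap ∘ₗ φ)
  obtain ⟨i, h1, h2⟩ := exists_ge_ge i₁ i₂
  let a : S ⊗[R] (Fin n → R) →ₗ[S] S ⊗[R] Colim.Stage i :=
    (Colim.stageMap i₁ i h1).baseChange S ∘ₗ hi ∘ₗ g
  let b : S ⊗[R] (Fin n → R) →ₗ[S] S ⊗[R] Colim.Stage i :=
    ((Colim.stageMap i₂ i h2) ∘ₗ ψ).baseChange S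
  have hab : Module.DirectLimit.of S _ (fun i => S ⊗[R] Colim.Stage (R := R) (M := M) i)
      (fun i j h => (Colim.stageMap i j h).baseChange S) i ∘ₗ a =
    Module.DirectLimit.of S _ (fun i => S ⊗[R] Colim.Stage (R := R) (M := M) i)
      (fun i j h => (Colim.stageMap i j h).baseChange S) i ∘ₗ b := by
    refine LinearMap.ext fun z => E.injective ?_
    simp only [LinearMap.comp_apply, a, b, Module.DirectLimit.of_f, LinearMap.baseChange_comp]
    have := LinearMap.congr_fun hhi (g z)
    simp only [LinearMap.comp_apply, LinearEquiv.coe_coe] at this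
    rw [this, LinearEquiv.apply_symm_apply]
    have h3 := LinearMap.congr_fun hfg z
    simp only [LinearMap.comp_apply] at h3
    rw [← h3]
    clear this h3
    induction z using TensorProduct.induction_on with
    | zero => simp
    | tmul s v =>
      have h4 := LinearMap.congr_fun hψ v
      simp only [LinearMap.comp_apply, LinearEquiv.coe_coe] at h4
      simp [E, colimBaseChange_of, h4]
    | add u v hu hv => simp only [map_add, hu, hv]
  obtain ⟨j, hij, hj⟩ := Colim.exists_comp_eq_of_fg (R := S) (G := fun i => S ⊗[R] Colim.Stage (R := R) (M := M) i)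
    (f := fun i j h => (Colim.stageMap i j h).baseChange S) a b hab
  let ψ' : (Fin n → R) →ₗ[R] Colim.Stage j :=
    Colim.stageMap i j hij ∘ₗ Colim.stageMap i₂ i h2 ∘ₗ ψ
  have hψ' : ψ'.baseChange S =
      ((Colim.stageMap i j hij).baseChange S ∘ₗ (Colim.stageMap i₁ i h1).baseChange S ∘ₗ hi) ∘ₗ g := by
    simp only [ψ', LinearMap.baseChange_comp, LinearMap.comp_assoc]
    simpa [a, b, LinearMap.baseChange_comp] using hj.symm
  have hz : ψ'.rTensor _ w = 0 := by
    haveI := Colim.stage_finitePresentation j
    apply piRightHom_injective_of_fp (Colim.Stage j)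
    rw [map_zero]
    funext k
    rw [piRightHom_rTensor, Pi.zero_apply]
    apply Module.FaithfullyFlat.tensorProduct_mk_injective (A := R) (B := S) (Colim.Stage j ⊗[R] Q k)
    rw [map_zero]
    apply (AlgebraTensorModule.distribBaseChange R S (Colim.Stage j) (Q k)).injective
    rw [TensorProduct.mk_apply, distrib_rTensor, hψ', LinearMap.rTensor_comp_apply, hg, map_zero,
      map_zero]
  have hφ' : φ = (e.toLinearMap ∘ₗ Module.DirectLimit.of R _ _ Colim.stageMap j) ∘ₗ ψ' := by
    ext v
    have h4 := LinearMap.congr_fun hψ (Pi.single v 1)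
    simp only [LinearMap.comp_apply, LinearEquiv.coe_coe] at h4
    simp [ψ', h4]
  rw [hφ', LinearMap.rTensor_comp_apply, hz, map_zero]

end Groth.Agent.MLDesc
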